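import Groth.Prelude.Def_DRing2
import Mathlib.RingTheory.Flat.Basic
import Mathlib.CategoryTheory.Abelian.LeftDerived
import Mathlib.Algebra.Category.ModuleCat.Projective
import Mathlib.LinearAlgebra.TensorProduct.RightExactness
import Mathlib.LinearAlgebra.TensorProduct.Quotient
import Mathlib.Algebra.Homology.ShortComplex.ModuleCat

/-! Finite tor dimension makes high syzygies in a flat resolution flat. -/

set_option autoImplicit false
universe u

open CategoryTheory CategoryTheory.Limits TensorProduct MonoidalCategory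

namespace TorDimLib

variable {A : Type u} [CommRing A]

/-- `M ⊗ P` is exact in degree `p + 1`. -/
def ExactAtSucc (M : Type u) [AddCommGroup M] [Module A M] {Z : ModuleCat.{u} A} (P : ProjectiveResolution Z)
    (p : ℕ) : Prop :=
  Function.Exact ((P.complex.d (p + 2) (p + 1)).hom.lTensor M) ((P.complex.d (p + 1) p).hom.lTensor M)

theorem exactAtSucc_of_subsingleton_tor {M N : Type u} [AddCommGroup M] [Module A M] [AddCommGroup N] [Module A N]
    (P : ProjectiveResolution (ModuleCat.of A N)) (p : ℕ) (h : Subsingleton (DRing.Tor A (p + 1) M N)) :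
    ExactAtSucc M P p := by
  let F := (tensoringLeft (ModuleCat.{u} A)).obj (ModuleCat.of A M)
  let K := (F.mapHomologicalComplex (ComplexShape.down ℕ)).obj P.complex
  have h0 : IsZero ((F.leftDerived (p + 1)).obj (ModuleCat.of A N)) := ModuleCat.isZero_of_iff_subsingleton.2 h
  have h1 : IsZero (K.homology (p + 1)) := h0.of_iso (P.isoLeftDerivedObj F (p + 1)).symm
  have h2 : K.ExactAt (p + 1) := (K.exactAt_iff_isZero_homology _).2 h1
  have h3 := (K.exactAt_iff' (p + 2) (p + 1) p (by simp only [ChainComplex.prev]; rfl) (by simp)).1 h2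
  exact (ShortComplex.ShortExact.moduleCat_exact_iff_function_exact _).1 h3

theorem flat_X {Z : ModuleCat.{u} A} (P : ProjectiveResolution Z) (n : ℕ) : Module.Flat A (P.complex.X n) := by
  have : Module.Projective A (P.complex.X n) := (IsProjective.iff_projective _).2 (P.projective n)
  infer_instance

theorem d_d {Z : ModuleCat.{u} A} (P : ProjectiveResolution Z) (M : Type u) [AddCommGroup M] [Module A M]
    (i j k : ℕ) (z : M ⊗[A] P.complex.X i) :
    (P.complex.d j k).hom.lTensor M ((P.complex.d i j).hom.lTensor M z) = 0 := by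
  rw [← LinearMap.comp_apply, ← LinearMap.lTensor_comp, ← ModuleCat.hom_comp, HomologicalComplex.d_comp_d]
  simp

theorem comm_apply {X Y X' Y' : Type u} [AddCommGroup X] [Module A X] [AddCommGroup Y] [Module A Y]
    [AddCommGroup X'] [Module A X'] [AddCommGroup Y'] [Module A Y'] (f : X →ₗ[A] Y) (g : X' →ₗ[A] Y')
    (z : X ⊗[A] X') : g.lTensor Y (f.rTensor X' z) = f.rTensor Y' (g.lTensor X z) := by
  rw [← LinearMap.comp_apply, ← LinearMap.comp_apply, LinearMap.lTensor_comp_rTensor,
    LinearMap.rTensor_comp_lTensor]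

/-- Dimension shift along a short exact sequence with flat middle term. -/
theorem exactAtSucc_shift {K F Q : Type u} [AddCommGroup K] [Module A K] [AddCommGroup F] [Module A F]
    [AddCommGroup Q] [Module A Q] [Module.Flat A F] (ι : K →ₗ[A] F) (π : F →ₗ[A] Q) (hι : Function.Injective ι)
    (hex : Function.Exact ι π) (hπ : Function.Surjective π) {Z : ModuleCat.{u} A} (P : ProjectiveResolution Z)
    (p : ℕ) (h : ExactAtSucc Q P (p + 1)) : ExactAtSucc K P p := by
  intro z
  refine ⟨fun hz => ?_, ?_⟩
  · let D2 := (P.complex.d (p + 2) (p + 1)).hom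
    let D3 := (P.complex.d (p + 3) (p + 2)).hom
    have := flat_X P (p + 1)
    have hinj : Function.Injective (ι.rTensor (P.complex.X (p + 1))) :=
      Module.Flat.rTensor_preserves_injective_linearMap ι hι
    have hF : Function.Exact (D2.lTensor F) ((P.complex.d (p + 1) p).hom.lTensor F) :=
      Module.Flat.lTensor_exact F ((ShortComplex.ShortExact.moduleCat_exact_iff_function_exact _).1 (P.exact_succ p))
    obtain ⟨w, hw⟩ := (hF (ι.rTensor _ z)).1 (by rw [comm_apply, hz, map_zero])
    have hQ : D2.lTensor Q (π.rTensor _ w) = 0 := by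
      rw [comm_apply, hw, ← LinearMap.comp_apply, ← LinearMap.rTensor_comp, hex.linearMap_comp_eq_zero]
      simp
    obtain ⟨v, hv⟩ := (h (π.rTensor _ w)).1 hQ
    obtain ⟨v', rfl⟩ := LinearMap.rTensor_surjective (P.complex.X (p + 3)) hπ v
    obtain ⟨u', hu'⟩ := (rTensor_exact (P.complex.X (p + 2)) hex hπ (w - D3.lTensor F v')).1 (by
      rw [map_sub, ← comm_apply, hv, sub_self])
    refine ⟨u', hinj ?_⟩
    rw [← comm_apply, hu', map_sub, show D2.lTensor F (D3.lTensor F v') = 0 from d_d P F _ _ _ v', sub_zero, hw]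
  · rintro ⟨w, rfl⟩
    exact d_d P K _ _ _ w

/-- Vanishing of the first tor groups gives flatness. -/
theorem flat_of_exactAtSucc {M : Type u} [AddCommGroup M] [Module A M]
    (h : ∀ (N : Type u) [AddCommGroup N] [Module A N] (P : ProjectiveResolution (ModuleCat.of A N)),
      ExactAtSucc M P 0) : Module.Flat A M := by
  rw [Module.Flat.iff_lTensor_injective']
  intro J
  obtain ⟨P⟩ := (inferInstance : HasProjectiveResolution (ModuleCat.of A (A ⧸ J))).out
  let π : P.complex.X 0 →ₗ[A] A ⧸ J := (P.π.f 0).hom
  let D1 := (P.complex.d 1 0).hom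
  have hπ : Function.Surjective π := (ModuleCat.epi_iff_surjective (P.π.f 0)).1 inferInstance
  have hex : Function.Exact D1 π :=
    (ShortComplex.ShortExact.moduleCat_exact_iff_function_exact _).1
      (ShortComplex.exact_of_g_is_cokernel (S := ShortComplex.mk _ _ P.complex_d_comp_π_f_zero) P.isColimitCokernelCofork)
  -- the kernel stays injective after tensoring
  have hK : Function.Injective ((LinearMap.ker π).subtype.lTensor M) := by
    refine (injective_iff_map_eq_zero _).2 fun y hy => ?_
    let D1' : P.complex.X 1 →ₗ[A] LinearMap.ker π := D1.codRestrict _ hex.apply_apply_eq_zero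
    have hD1' : Function.Surjective D1' := fun x => by
      obtain ⟨z, hz⟩ := (hex x.1).1 x.2
      exact ⟨z, Subtype.ext hz⟩
    obtain ⟨z, rfl⟩ := LinearMap.lTensor_surjective M hD1' y
    rw [← LinearMap.comp_apply, ← LinearMap.lTensor_comp] at hy
    obtain ⟨w, rfl⟩ := (h _ P z).1 hy
    rw [← LinearMap.comp_apply, ← LinearMap.lTensor_comp]
    rw [show D1'.comp (P.complex.d 2 1).hom = 0 from LinearMap.ext fun x => Subtype.ext (by
      show ((P.complex.d 2 1) ≫ (P.complex.d 1 0)).hom x = 0
      rw [HomologicalComplex.d_comp_d]; rfl)]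
    simp
  -- comparison with the presentation by `A`
  have : Module.Projective A (P.complex.X 0) := (IsProjective.iff_projective _).2 (P.projective 0)
  obtain ⟨a, ha⟩ := Module.projective_lifting_property π (J.mkQ : A →ₗ[A] A ⧸ J) hπ
  obtain ⟨b, hb⟩ := Module.projective_lifting_property (J.mkQ : A →ₗ[A] A ⧸ J) π J.mkQ_surjective
  let a' : J →ₗ[A] LinearMap.ker π := (a ∘ₗ J.subtype).codRestrict _ fun x => by
    rw [LinearMap.mem_ker, LinearMap.comp_apply, ← LinearMap.comp_apply π a, ha]
    exact (Submodule.Quotient.mk_eq_zero J).2 x.2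
  let b' : LinearMap.ker π →ₗ[A] J := (b ∘ₗ (LinearMap.ker π).subtype).codRestrict _ fun x => by
    rw [← Submodule.Quotient.mk_eq_zero J, ← Submodule.mkQ_apply, LinearMap.comp_apply,
      ← LinearMap.comp_apply J.mkQ b, hb]
    exact x.2
  let g : A →ₗ[A] J := (b ∘ₗ a - LinearMap.id).codRestrict _ fun x => by
    rw [← Submodule.Quotient.mk_eq_zero J, ← Submodule.mkQ_apply, LinearMap.sub_apply, map_sub,
      LinearMap.comp_apply, ← LinearMap.comp_apply J.mkQ b, hb, ← LinearMap.comp_apply π a, ha]
    simp
  have hid : (LinearMap.id : J →ₗ[A] J) = b' ∘ₗ a' - g ∘ₗ J.subtype :=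
    LinearMap.ext fun x => Subtype.ext (by
      show (x : A) = b (a x) - (b (a x) - x)
      rw [sub_sub_cancel])
  refine (injective_iff_map_eq_zero _).2 fun x hx => ?_
  have h1 : a'.lTensor M x = 0 := (injective_iff_map_eq_zero _).1 hK _ (by
    rw [← LinearMap.comp_apply, ← LinearMap.lTensor_comp,
      show (LinearMap.ker π).subtype ∘ₗ a' = a ∘ₗ J.subtype from rfl, LinearMap.lTensor_comp,
      LinearMap.comp_apply, hx, map_zero])
  have h2 : (LinearMap.id : J →ₗ[A] J).lTensor M x = 0 := by
    rw [hid, LinearMap.lTensor_sub, LinearMap.sub_apply, LinearMap.lTensor_comp, LinearMap.lTensor_comp,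
      LinearMap.comp_apply, LinearMap.comp_apply, h1, hx, map_zero, map_zero, sub_zero]
  simpa using h2

section Resolution

variable (F : ℕ → Type u) [∀ n, AddCommGroup (F n)] [∀ n, Module A (F n)] [∀ n, Module.Flat A (F n)]
  (d : ∀ n, F (n + 1) →ₗ[A] F n) (hd : ∀ n, Function.Exact (d (n + 1)) (d n))
  {M : Type u} [AddCommGroup M] [Module A M] (ε : F 0 →ₗ[A] M) (hε : Function.Surjective ε)
  (hdε : Function.Exact (d 0) ε)

include hd hε hdε in
/-- High syzygies of a module of finite tor dimension are flat. -/
theorem exists_flat_range (hM : DRing.HasFiniteTorDim A M) :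
    ∃ N, ∀ n, N ≤ n → Module.Flat A (LinearMap.range (d n)) := by
  obtain ⟨N, hN⟩ := hM
  refine ⟨N, fun n hn => flat_of_exactAtSucc fun X _ _ P => ?_⟩
  have key : ∀ k p, N ≤ k + 1 + p → ExactAtSucc (LinearMap.range (d k)) P p := by
    intro k
    induction k with
    | zero =>
      intro p hp
      exact exactAtSucc_shift (LinearMap.range (d 0)).subtype ε Subtype.val_injective
        (by rw [LinearMap.exact_iff, Submodule.range_subtype]; exact LinearMap.exact_iff.1 hdε) hε P p
        (exactAtSucc_of_subsingleton_tor P (p + 1) (hN X (p + 1 + 1) (by omega)))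
    | succ k ih =>
      intro p hp
      exact exactAtSucc_shift (LinearMap.range (d (k + 1))).subtype (d k).rangeRestrict Subtype.val_injective
        (by rw [LinearMap.exact_iff, Submodule.range_subtype, LinearMap.ker_rangeRestrict]
            exact LinearMap.exact_iff.1 (hd k))
        (LinearMap.surjective_rangeRestrict _) P p (ih (p + 1) (by omega))
  exact key n 0 (by omega)

end Resolution

/-- A submodule with flat quotient is pure. -/
theorem mem_smul_of_flat_quotient {K F Q : Type u} [AddCommGroup K] [Module A K] [AddCommGroup F] [Module A F]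
    [AddCommGroup Q] [Module A Q] [Module.Flat A Q] (ι : K →ₗ[A] F) (π : F →ₗ[A] Q) (hι : Function.Injective ι)
    (hex : Function.Exact ι π) (hπ : Function.Surjective π) (I : Ideal A) (x : K)
    (hx : ι x ∈ I • (⊤ : Submodule A F)) : x ∈ I • (⊤ : Submodule A K) := by
  have hinj : Function.Injective (ι.lTensor (A ⧸ I)) := by
    refine (injective_iff_map_eq_zero _).2 fun y hy => ?_
    obtain ⟨z, rfl⟩ := LinearMap.rTensor_surjective K I.mkQ_surjective y
    rw [comm_apply] at hy
    obtain ⟨w, hw⟩ := (rTensor_exact F (LinearMap.exact_subtype_mkQ I) I.mkQ_surjective _).1 hy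
    have h1 : π.lTensor I w = 0 := by
      apply Module.Flat.rTensor_preserves_injective_linearMap (M := Q) I.subtype Subtype.val_injective
      rw [map_zero, ← comm_apply, hw, ← LinearMap.comp_apply, ← LinearMap.lTensor_comp,
        hex.linearMap_comp_eq_zero]
      simp
    obtain ⟨v, hv⟩ := (lTensor_exact I hex hπ w).1 h1
    have h2 : z = I.subtype.rTensor K v := by
      apply Module.Flat.lTensor_preserves_injective_linearMap (M := A) ι hι
      rw [comm_apply, hv, hw]
    rw [h2, ← LinearMap.comp_apply, ← LinearMap.rTensor_comp, (LinearMap.exact_subtype_mkQ I).linearMap_comp_eq_zero]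
    simp
  have h1 : ι.lTensor (A ⧸ I) ((1 : A ⧸ I) ⊗ₜ[A] x) = 0 := by
    rw [LinearMap.lTensor_tmul]
    apply (TensorProduct.quotTensorEquivQuotSMul F I).injective
    rw [map_zero, show (1 : A ⧸ I) = Ideal.Quotient.mk I 1 from rfl, TensorProduct.quotTensorEquivQuotSMul_mk_tmul,
      one_smul]
    exact (Submodule.Quotient.mk_eq_zero _).2 hx
  have h2 := congrArg (TensorProduct.quotTensorEquivQuotSMul K I) ((injective_iff_map_eq_zero _).1 hinj _ h1)
  rw [map_zero, show (1 : A ⧸ I) = Ideal.Quotient.mk I 1 from rfl, TensorProduct.quotTensorEquivQuotSMul_mk_tmul,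
    one_smul] at h2
  exact (Submodule.Quotient.mk_eq_zero _).1 h2

end TorDimLib
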