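/-
Higher tor groups with a flat argument vanish.
-/
import Groth.Agent.TorDimLib.Basic
import Mathlib.LinearAlgebra.Finsupp.LinearCombination

set_option autoImplicit false
universe u

open CategoryTheory CategoryTheory.Limits TensorProduct MonoidalCategory

namespace TorDimLib

variable {A : Type u} [CommRing A]

theorem subsingleton_tor_of_exactAtSucc {M N : Type u} [AddCommGroup M] [Module A M] [AddCommGroup N] [Module A N]
    (P : ProjectiveResolution (ModuleCat.of A N)) (p : ℕ) (h : ExactAtSucc M P p) :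
    Subsingleton (DRing.Tor A (p + 1) M N) := by
  let F := (tensoringLeft (ModuleCat.{u} A)).obj (ModuleCat.of A M)
  let K := (F.mapHomologicalComplex (ComplexShape.down ℕ)).obj P.complex
  have h2 : K.ExactAt (p + 1) :=
    (K.exactAt_iff' (p + 2) (p + 1) p (by simp only [ChainComplex.prev]; rfl) (by simp)).2
      ((ShortComplex.ShortExact.moduleCat_exact_iff_function_exact _).2 h)
  have h1 : IsZero (K.homology (p + 1)) := (K.exactAt_iff_isZero_homology _).1 h2
  exact ModuleCat.isZero_of_iff_subsingleton.1 (h1.of_iso (P.isoLeftDerivedObj F (p + 1)))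

theorem exactAtSucc_of_flat_left {M : Type u} [AddCommGroup M] [Module A M] [Module.Flat A M] {Z : ModuleCat.{u} A}
    (P : ProjectiveResolution Z) (p : ℕ) : ExactAtSucc M P p :=
  Module.Flat.lTensor_exact M ((ShortComplex.ShortExact.moduleCat_exact_iff_function_exact _).1 (P.exact_succ p))

/-- The inductive step for the exactness of a tensored resolution of a flat module. -/
theorem exact_lTensor_step {Xa Xb Xc Y : Type u} [AddCommGroup Xa] [Module A Xa] [AddCommGroup Xb] [Module A Xb]
    [AddCommGroup Xc] [Module A Xc] [AddCommGroup Y] [Module A Y] [Module.Flat A Y]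
    (da : Xa →ₗ[A] Xb) (db : Xb →ₗ[A] Xc) (dc : Xc →ₗ[A] Y) (hab : db ∘ₗ da = 0) (hbc : dc ∘ₗ db = 0)
    (hfree : ∀ (F : Type u) [AddCommGroup F] [Module A F] [Module.Flat A F],
      Function.Exact (da.lTensor F) (db.lTensor F))
    (hK : ∀ (K : Type u) [AddCommGroup K] [Module A K], Function.Exact (db.lTensor K) (dc.lTensor K))
    (N : Type u) [AddCommGroup N] [Module A N] : Function.Exact (da.lTensor N) (db.lTensor N) := by
  intro z
  refine ⟨fun hz => ?_, ?_⟩
  · let π : (N →₀ A) →ₗ[A] N := Finsupp.linearCombination A id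
    have hπ : Function.Surjective π := Finsupp.linearCombination_id_surjective A N
    obtain ⟨K, _, _, ι, hι, hex'⟩ : ∃ (K : Type u) (_ : AddCommGroup K) (_ : Module A K) (ι : K →ₗ[A] (N →₀ A)),
        Function.Injective ι ∧ Function.Exact ι π :=
      ⟨LinearMap.ker π, inferInstance, inferInstance, (LinearMap.ker π).subtype, Subtype.val_injective,
        LinearMap.exact_subtype_ker_map π⟩
    obtain ⟨w, rfl⟩ := LinearMap.rTensor_surjective Xb hπ z
    rw [comm_apply] at hz
    obtain ⟨u', hu⟩ := (rTensor_exact (M := K) (N := N →₀ A) (P := N) Xc hex' hπ (db.lTensor _ w)).1 hz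
    have h2 : dc.lTensor _ u' = 0 :=
      (injective_iff_map_eq_zero (ι.rTensor Y)).1
        (Module.Flat.rTensor_preserves_injective_linearMap ι hι) (dc.lTensor _ u')
        (by rw [← comm_apply, hu, ← LinearMap.comp_apply, ← LinearMap.lTensor_comp, hbc]; simp)
    obtain ⟨v, hv⟩ := (hK _ u').1 h2
    obtain ⟨s, hs⟩ := (hfree (N →₀ A) (w - ι.rTensor _ v)).1 (by
      rw [map_sub, comm_apply, hv, hu, sub_self])
    refine ⟨π.rTensor _ s, ?_⟩
    rw [comm_apply, hs, map_sub, ← LinearMap.comp_apply (π.rTensor _) (ι.rTensor _),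
      ← LinearMap.rTensor_comp, hex'.linearMap_comp_eq_zero]
    simp
  · rintro ⟨w, rfl⟩
    rw [← LinearMap.comp_apply, ← LinearMap.lTensor_comp, hab]
    simp

theorem exactAtSucc_of_flat_right {M : Type u} [AddCommGroup M] [Module A M] [Module.Flat A M]
    (P : ProjectiveResolution (ModuleCat.of A M)) (p : ℕ) :
    ∀ (N : Type u) [AddCommGroup N] [Module A N], ExactAtSucc N P p := by
  have hd : ∀ i j k : ℕ, (P.complex.d j k).hom ∘ₗ (P.complex.d i j).hom = 0 := fun i j k => by
    rw [← ModuleCat.hom_comp, HomologicalComplex.d_comp_d]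
    rfl
  induction p with
  | zero =>
    obtain ⟨ε, hε, hex⟩ : ∃ ε : P.complex.X 0 →ₗ[A] M,
        Function.Surjective ε ∧ Function.Exact (P.complex.d 1 0).hom ε :=
      ⟨(P.π.f 0).hom, (ModuleCat.epi_iff_surjective (P.π.f 0)).1 inferInstance,
        (ShortComplex.ShortExact.moduleCat_exact_iff_function_exact _).1
          (ShortComplex.exact_of_g_is_cokernel (S := ShortComplex.mk _ _ P.complex_d_comp_π_f_zero)
            P.isColimitCokernelCofork)⟩
    exact exact_lTensor_step _ _ ε (hd _ _ _) hex.linearMap_comp_eq_zero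
      (fun F _ _ _ => exactAtSucc_of_flat_left (M := F) P 0) fun K _ _ => lTensor_exact K hex hε
  | succ p ih =>
    have := flat_X P p
    exact exact_lTensor_step _ _ (P.complex.d (p + 1) p).hom (hd _ _ _) (hd _ _ _)
      (fun F _ _ _ => exactAtSucc_of_flat_left (M := F) P (p + 1)) ih

end TorDimLib
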