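import Groth.Agent.TorDimLib.Divided

/-! A complex over `Q` resolving a quotient of `Q/(f)`, with the obstruction operators. -/

set_option autoImplicit false
universe u

namespace TorDimLib

variable {Q : Type u} [CommRing Q] (f : Q) (J : Ideal Q)

/-- The levels: index types and submodules of cycles. -/
noncomputable def lvl : ℕ → (ι : Type u) × Submodule Q (ι →₀ Q)
  | 0 => ⟨PUnit.{u + 1}, Submodule.comap (Finsupp.lapply PUnit.unit : (PUnit.{u + 1} →₀ Q) →ₗ[Q] Q) J⟩
  | n + 1 =>
    ⟨(lvl n).2, Submodule.comap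
      (Finsupp.linearCombination Q (Subtype.val : (lvl n).2 → ((lvl n).1 →₀ Q)))
      (LinearMap.range (LinearMap.lsmul Q ((lvl n).1 →₀ Q) f))⟩

/-- The terms. -/
abbrev LX (n : ℕ) : Type u := (lvl f J n).1 →₀ Q

/-- The cycles modulo `f`. -/
noncomputable def LZ (n : ℕ) : Submodule Q (LX f J n) := (lvl f J n).2

/-- The differential. -/
noncomputable def Ld (n : ℕ) : LX f J (n + 1) →ₗ[Q] LX f J n :=
  Finsupp.linearCombination Q (Subtype.val : (lvl f J n).2 → ((lvl f J n).1 →₀ Q))

theorem range_Ld (n : ℕ) : LinearMap.range (Ld f J n) = LZ f J n :=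
  (Finsupp.range_linearCombination Q).trans ((congrArg (Submodule.span Q) Subtype.range_coe_subtype).trans (Submodule.span_eq _))

theorem mem_LZ_succ (n : ℕ) (x : LX f J (n + 1)) :
    x ∈ LZ f J (n + 1) ↔ ∃ y, f • y = Ld f J n x := Iff.rfl

theorem mem_LZ_zero (x : LX f J 0) : x ∈ LZ f J 0 ↔ x PUnit.unit ∈ J := Iff.rfl

theorem exists_theta (n : ℕ) : ∃ θ : LX f J (n + 2) →ₗ[Q] LX f J n,
    ∀ x, f • θ x = Ld f J n (Ld f J (n + 1) x) := by
  obtain ⟨θ, hθ⟩ := Module.projective_lifting_property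
    ((LinearMap.lsmul Q (LX f J n) f).rangeRestrict)
    ((Ld f J n ∘ₗ Ld f J (n + 1)).codRestrict (LinearMap.range (LinearMap.lsmul Q (LX f J n) f)) fun x =>
      ((mem_LZ_succ f J n _).1 ((range_Ld f J (n + 1)).le (LinearMap.mem_range_self _ x))))
    (LinearMap.surjective_rangeRestrict _)
  exact ⟨θ, fun x => congrArg Subtype.val (LinearMap.congr_fun hθ x)⟩

/-- The operator of degree `-2`. -/
noncomputable def Lθ (n : ℕ) : LX f J (n + 2) →ₗ[Q] LX f J n := (exists_theta f J n).choose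

theorem f_smul_Lθ (n : ℕ) (x : LX f J (n + 2)) : f • Lθ f J n x = Ld f J n (Ld f J (n + 1) x) :=
  (exists_theta f J n).choose_spec x

/-- The ideal `Ann(f) + (f)`. -/
noncomputable def obsIdeal : Ideal Q := (Ideal.span {f}).annihilator ⊔ Ideal.span {f}

theorem smul_mem_obs {ι : Type u} (y : ι →₀ Q) : f • y ∈ obsIdeal f • (⊤ : Submodule Q (ι →₀ Q)) :=
  Submodule.smul_mem_smul (Submodule.mem_sup_right (Ideal.mem_span_singleton_self f)) trivial

theorem mem_obs_of_smul_eq_zero {ι : Type u} (y : ι →₀ Q) (hy : f • y = 0) :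
    y ∈ obsIdeal f • (⊤ : Submodule Q (ι →₀ Q)) := by
  rw [← Finsupp.sum_single y]
  refine Submodule.sum_mem _ fun i _ => ?_
  show Finsupp.single i (y i) ∈ _
  rw [show y i = y i • (1 : Q) from (mul_one _).symm, ← Finsupp.smul_single]
  refine Submodule.smul_mem_smul (Submodule.mem_sup_left ?_) trivial
  rw [Ideal.span, Submodule.mem_annihilator_span_singleton, smul_eq_mul, mul_comm]
  simpa using DFunLike.congr_fun hy i

variable {m : ℕ} (φ : Module.Dual Q (Fin m → Q)) (hφ : ∀ v, φ v ∈ J) (r : Fin m → Q)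
  (g : Q) (hr : φ r = f * g)

/-- A comparison map from the divided power algebra. -/
structure Comp (n : ℕ) where
  map : Div Q m →ₗ[Q] LX f J n
  mem : ∀ a, Homog (n + 1) a → map (divD φ r a) ∈ LZ f J n

include hφ in
theorem exists_comp_zero : ∃ c : Comp f J φ r 0, c.map (Finsupp.single 0 1) = Finsupp.single PUnit.unit 1 := by
  refine ⟨⟨Finsupp.lsingle PUnit.unit ∘ₗ ExteriorAlgebra.algebraMapInv.toLinearMap ∘ₗ Finsupp.lapply 0,
    fun a ha => ?_⟩, ?_⟩
  · have key : ExteriorAlgebra.algebraMapInv (divD φ r a 0) ∈ J := by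
      rw [divD_apply, map_add, map_mul]
      refine add_mem ?_ ?_
      · have h : a 0 ∈ (LinearMap.range (ExteriorAlgebra.ι Q : (Fin m → Q) →ₗ[Q] _)) ^ (1 : ℕ) :=
          (ha 0).1 (by omega)
        rw [pow_one] at h
        obtain ⟨v, hv⟩ := h
        rw [← hv, ← mul_one (ExteriorAlgebra.ι Q v), contr_ι_mul, contr_one, mul_zero, sub_zero, map_smul, map_one,
          smul_eq_mul, mul_one]
        exact hφ v
      · rw [show ExteriorAlgebra.algebraMapInv (ExteriorAlgebra.ι Q r) = 0 by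
          simp [ExteriorAlgebra.algebraMapInv], zero_mul]
        exact zero_mem _
    have e := Finsupp.single_eq_same (a := (PUnit.unit : PUnit.{u + 1})) (b := ExteriorAlgebra.algebraMapInv (divD φ r a 0))
    exact e.symm.subst (motive := fun x => x ∈ J) key
  · show Finsupp.single (PUnit.unit : PUnit.{u + 1}) (ExteriorAlgebra.algebraMapInv ((Finsupp.single 0 1 : Div Q m) 0)) = _
    rw [Finsupp.single_eq_same, map_one]

include hr in
theorem exists_comp_succ (n : ℕ) (c : Comp f J φ r n) :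
    ∃ c' : Comp f J φ r (n + 1), ∀ a, Homog (n + 1) a → Ld f J n (c'.map a) = c.map (divD φ r a) := by
  let T : Div Q m →ₗ[Q] LX f J n := c.map ∘ₗ divD φ r ∘ₗ divProj (n + 1)
  obtain ⟨w, hw⟩ := Module.projective_lifting_property (Ld f J n).rangeRestrict
    (T.codRestrict (LinearMap.range (Ld f J n)) fun a =>
      (range_Ld f J n).ge (c.mem _ (homog_divProj (n + 1) a)))
    (LinearMap.surjective_rangeRestrict _)
  have hw' : ∀ a, Ld f J n (w a) = c.map (divD φ r (divProj (n + 1) a)) := fun a =>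
    congrArg Subtype.val (LinearMap.congr_fun hw a)
  refine ⟨⟨w, fun a ha => ?_⟩, fun a ha => by rw [hw', divProj_of_homog ha]⟩
  rw [mem_LZ_succ]
  refine ⟨g • c.map (divShift a), ?_⟩
  rw [hw', divProj_of_homog (homog_divD φ r ha), divD_divD, hr, map_smul, smul_smul]

/-- The chosen comparison maps. -/
noncomputable def comp : (n : ℕ) → Comp f J φ r n
  | 0 => (exists_comp_zero f J φ hφ r).choose
  | n + 1 => (exists_comp_succ f J φ r g hr n (comp n)).choose

theorem Ld_comp (n : ℕ) (a : Div Q m) (ha : Homog (n + 1) a) :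
    Ld f J n ((comp f J φ hφ r g hr (n + 1)).map a) = (comp f J φ hφ r g hr n).map (divD φ r a) :=
  (exists_comp_succ f J φ r g hr n (comp f J φ hφ r g hr n)).choose_spec a ha

theorem Lθ_comp_sub (n : ℕ) (a : Div Q m) (ha : Homog (n + 2) a) :
    Lθ f J n ((comp f J φ hφ r g hr (n + 2)).map a) - g • (comp f J φ hφ r g hr n).map (divShift a) ∈
      obsIdeal f • (⊤ : Submodule Q (LX f J n)) := by
  refine mem_obs_of_smul_eq_zero f _ ?_
  rw [smul_sub, f_smul_Lθ, Ld_comp f J φ hφ r g hr (n + 1) a ha,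
    Ld_comp f J φ hφ r g hr n _ (homog_divD φ r ha), divD_divD, hr, map_smul, smul_smul, sub_self]

/-- Boundaries modulo the obstruction ideal. -/
noncomputable def Bd (n : ℕ) : Submodule Q (LX f J n) := LZ f J n ⊔ obsIdeal f • ⊤

theorem Lθ_mem_Bd (n : ℕ) (x : LX f J (n + 2)) (hx : x ∈ Bd f J (n + 2)) : Lθ f J n x ∈ Bd f J n := by
  obtain ⟨z, hz, w, hw, rfl⟩ := Submodule.mem_sup.1 hx
  rw [map_add]
  refine add_mem ?_ ?_
  · obtain ⟨v, rfl⟩ := (range_Ld f J (n + 2)).ge hz
    have h1 : Lθ f J n (Ld f J (n + 2) v) - Ld f J n (Lθ f J (n + 1) v) ∈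
        obsIdeal f • (⊤ : Submodule Q (LX f J n)) := by
      refine mem_obs_of_smul_eq_zero f _ ?_
      rw [smul_sub, f_smul_Lθ, ← map_smul, f_smul_Lθ, sub_self]
    have h2 : Ld f J n (Lθ f J (n + 1) v) ∈ LZ f J n := (range_Ld f J n).le (LinearMap.mem_range_self _ _)
    have := Submodule.add_mem_sup h2 h1
    rwa [add_sub_cancel] at this
  · refine Submodule.mem_sup_right ?_
    have h := Submodule.mem_map_of_mem (f := Lθ f J n) hw
    rw [Submodule.map_smul''] at h
    exact Submodule.smul_mono le_rfl le_top h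

include hr in
theorem comp_single_notMem (hg : ∀ k, g ^ k ∉ J ⊔ obsIdeal f) (i k : ℕ) :
    g ^ k • (comp f J φ hφ r g hr (2 * i)).map (Finsupp.single i 1) ∉ Bd f J (2 * i) := by
  induction i generalizing k with
  | zero =>
    intro h
    change g ^ k • (comp f J φ hφ r g hr 0).map (Finsupp.single 0 1) ∈ Bd f J 0 at h
    rw [show comp f J φ hφ r g hr 0 = (exists_comp_zero f J φ hφ r).choose from rfl,
      (exists_comp_zero f J φ hφ r).choose_spec] at h
    obtain ⟨z, hz, w, hw, hzw⟩ := Submodule.mem_sup.1 h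
    refine hg k ?_
    let ev : LX f J 0 →ₗ[Q] Q := Finsupp.lapply PUnit.unit
    have h1 : ev z + ev w = g ^ k := by
      rw [← map_add, hzw, map_smul, smul_eq_mul]
      exact (congrArg (g ^ k * ·) (Finsupp.single_eq_same (a := (PUnit.unit : PUnit.{u + 1})) (b := (1 : Q)))).trans (mul_one _)
    rw [← h1]
    refine Submodule.add_mem_sup ((mem_LZ_zero f J z).1 hz) ?_
    have h2 := Submodule.mem_map_of_mem (f := ev) hw
    rw [Submodule.map_smul''] at h2
    exact (Submodule.smul_mono le_rfl le_top).trans (by rw [smul_eq_mul, Ideal.mul_top]) h2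
  | succ i ih =>
    intro h
    refine ih (k + 1) ?_
    have h1 := Lθ_mem_Bd f J (2 * i) _ h
    rw [map_smul] at h1
    have ha : Homog (2 * i + 2) (Finsupp.single (i + 1) (1 : ExteriorAlgebra Q (Fin m → Q))) :=
      homog_single (i + 1)
    have h2 := Submodule.smul_mem _ (g ^ k) (Lθ_comp_sub f J φ hφ r g hr (2 * i) _ ha)
    rw [divShift_single, smul_sub, smul_smul, ← pow_succ] at h2
    have h3 : g ^ k • Lθ f J (2 * i) ((comp f J φ hφ r g hr (2 * i + 2)).map (Finsupp.single (i + 1) 1)) ∈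
        Bd f J (2 * i) := h1
    have := sub_mem h3 (show _ ∈ Bd f J (2 * i) from Submodule.mem_sup_right h2)
    rwa [sub_sub_cancel] at this

include hr in
theorem Ld_comp_single_mem (hrI : ∀ j, r j ∈ obsIdeal f) (i : ℕ) :
    Ld f J (2 * i + 1) ((comp f J φ hφ r g hr (2 * i + 2)).map (Finsupp.single (i + 1) 1)) ∈
      obsIdeal f • (⊤ : Submodule Q (LX f J (2 * i + 1))) := by
  have e : ExteriorAlgebra.ι Q r = ∑ j, r j • ExteriorAlgebra.ι Q (fun l => if j = l then (1 : Q) else 0) := by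
    conv_lhs => rw [pi_eq_sum_univ r, map_sum]
    exact Finset.sum_congr rfl fun j _ => map_smul _ _ _
  rw [Ld_comp f J φ hφ r g hr (2 * i + 1) _ (homog_single (i + 1)), divD_single, e, ← Finsupp.lsingle_apply (R := Q), map_sum, map_sum]
  refine Submodule.sum_mem _ fun j _ => ?_
  rw [map_smul, map_smul]
  exact Submodule.smul_mem_smul (hrI j) trivial

end TorDimLib
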