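import Mathlib.LinearAlgebra.ExteriorAlgebra.Grading
import Mathlib.LinearAlgebra.ExteriorAlgebra.Basis
import Mathlib.LinearAlgebra.CliffordAlgebra.Contraction
import Mathlib.LinearAlgebra.Finsupp.VectorSpace
import Mathlib.Algebra.Module.Projective

/-! The exterior algebra with a divided power variable `y`, with `d y = r`. -/

set_option autoImplicit false
universe u

namespace TorDimLib

variable {R : Type u} [CommRing R] {m : ℕ}

local notation "Λ" => ExteriorAlgebra R (Fin m → R)

/-- The underlying module: `a i` is the coefficient of the `i`-th divided power of `y`. -/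
abbrev Div (R : Type u) [CommRing R] (m : ℕ) : Type u := ℕ →₀ ExteriorAlgebra R (Fin m → R)

variable (φ : Module.Dual R (Fin m → R)) (r : Fin m → R)

/-- Shift of the divided powers. -/
noncomputable def divShift : Div R m →ₗ[R] Div R m := Finsupp.lcomapDomain Nat.succ Nat.succ_injective

theorem divShift_apply (a : Div R m) (i : ℕ) : divShift a i = a (i + 1) := rfl

/-- Contraction with `φ`. -/
noncomputable def contr : Λ →ₗ[R] Λ := CliffordAlgebra.contractLeft (Q := (0 : QuadraticForm R (Fin m → R))) φ

/-- The differential. -/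
noncomputable def divD : Div R m →ₗ[R] Div R m :=
  Finsupp.mapRange.linearMap (contr φ) +
    Finsupp.mapRange.linearMap (LinearMap.mulLeft R (ExteriorAlgebra.ι R r)) ∘ₗ divShift

theorem divD_apply (a : Div R m) (i : ℕ) :
    divD φ r a i = contr φ (a i) + ExteriorAlgebra.ι R r * a (i + 1) := rfl

theorem contr_contr (x : Λ) : contr φ (contr φ x) = 0 := CliffordAlgebra.contractLeft_contractLeft φ x

theorem contr_ι_mul (v : Fin m → R) (x : Λ) :
    contr φ (ExteriorAlgebra.ι R v * x) = φ v • x - ExteriorAlgebra.ι R v * contr φ x :=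
  CliffordAlgebra.contractLeft_ι_mul φ v x

theorem contr_algebraMap (c : R) : contr φ (algebraMap R Λ c) = 0 :=
  CliffordAlgebra.contractLeft_algebraMap (0 : QuadraticForm R (Fin m → R)) φ c

theorem divD_divD (a : Div R m) : divD φ r (divD φ r a) = φ r • divShift a := by
  ext i
  simp only [divD_apply, map_add, contr_contr, contr_ι_mul, Finsupp.smul_apply, divShift_apply, mul_add,
    ← mul_assoc, ExteriorAlgebra.ι_sq_zero, zero_mul]
  abel

theorem contr_one : contr φ (1 : Λ) = 0 := by rw [← map_one (algebraMap R Λ), contr_algebraMap]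

theorem exists_algebraMap_of_mem_zero {x : Λ} (hx : x ∈ ⋀[R]^0 (Fin m → R)) : ∃ c, algebraMap R Λ c = x := by
  have h : x ∈ (LinearMap.range (ExteriorAlgebra.ι R : (Fin m → R) →ₗ[R] Λ)) ^ 0 := hx
  rwa [pow_zero, Submodule.one_eq_range] at h

theorem one_mem_zero : (1 : Λ) ∈ ⋀[R]^0 (Fin m → R) := by
  show (1 : Λ) ∈ (LinearMap.range (ExteriorAlgebra.ι R : (Fin m → R) →ₗ[R] Λ)) ^ 0
  rw [pow_zero]
  exact Submodule.one_le.1 le_rfl

/-- Homogeneous elements of degree `n` (`y` has degree two). -/
def Homog (n : ℕ) (a : Div R m) : Prop :=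
  ∀ i, (2 * i ≤ n → a i ∈ ⋀[R]^(n - 2 * i) (Fin m → R)) ∧ (n < 2 * i → a i = 0)

theorem contr_mem (k : ℕ) (x : Λ) (hx : x ∈ ⋀[R]^k (Fin m → R)) :
    contr φ x ∈ ⋀[R]^(k - 1) (Fin m → R) := by
  induction hx using Submodule.pow_induction_on_left' with
  | algebraMap c => rw [contr_algebraMap]; exact zero_mem _
  | add x y i _ _ hx hy => rw [map_add]; exact add_mem hx hy
  | mem_mul v hv i x hxi ih =>
    obtain ⟨v, rfl⟩ := hv
    rw [contr_ι_mul]
    refine sub_mem (Submodule.smul_mem _ _ hxi) ?_
    rcases Nat.eq_zero_or_pos i with rfl | hi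
    · rw [pow_zero, Submodule.one_eq_range] at hxi
      obtain ⟨c, rfl⟩ := hxi
      rw [show contr φ (Algebra.linearMap R Λ c) = 0 from contr_algebraMap φ c, mul_zero]
      exact zero_mem _
    · have h := Submodule.mul_mem_mul (LinearMap.mem_range_self (ExteriorAlgebra.ι R) v) ih
      rw [← pow_succ'] at h
      rwa [Nat.succ_sub_one, show i = i - 1 + 1 by omega]

theorem homog_divD {n : ℕ} {a : Div R m} (ha : Homog (n + 1) a) : Homog n (divD φ r a) := by
  intro i
  rw [divD_apply]
  constructor
  · intro hi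
    refine add_mem ?_ ?_
    · have h := contr_mem φ _ _ ((ha i).1 (by omega))
      rwa [show n + 1 - 2 * i - 1 = n - 2 * i by omega] at h
    · by_cases hi' : 2 * (i + 1) ≤ n + 1
      · have h := Submodule.mul_mem_mul (LinearMap.mem_range_self (ExteriorAlgebra.ι R) r) ((ha (i + 1)).1 hi')
        rw [← pow_succ'] at h
        rwa [show n + 1 - 2 * (i + 1) + 1 = n - 2 * i by omega] at h
      · rw [(ha (i + 1)).2 (by omega), mul_zero]
        exact zero_mem _
  · intro hi
    rw [(ha (i + 1)).2 (by omega), mul_zero, add_zero]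
    by_cases hi' : 2 * i ≤ n + 1
    · have h := (ha i).1 hi'
      rw [show n + 1 - 2 * i = 0 by omega] at h
      obtain ⟨c, hc⟩ := exists_algebraMap_of_mem_zero h
      rw [← hc]
      exact contr_algebraMap φ c
    · rw [(ha i).2 (by omega), map_zero]

theorem homog_divShift {n : ℕ} {a : Div R m} (ha : Homog (n + 2) a) : Homog n (divShift a) := fun i => by
  rw [divShift_apply]
  constructor
  · intro hi
    have h := (ha (i + 1)).1 (by omega)
    rwa [show n + 2 - 2 * (i + 1) = n - 2 * i by omega] at h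
  · exact fun hi => (ha (i + 1)).2 (by omega)

/-- Projection onto an exterior power. -/
noncomputable def projE (k : ℕ) : Λ →ₗ[R] Λ :=
  (⋀[R]^k (Fin m → R)).subtype ∘ₗ (DirectSum.component R ℕ (fun i => ⋀[R]^i (Fin m → R)) k) ∘ₗ
    (DirectSum.decomposeLinearEquiv (fun i => ⋀[R]^i (Fin m → R))).toLinearMap

theorem projE_mem (k : ℕ) (x : Λ) : projE k x ∈ ⋀[R]^k (Fin m → R) :=
  ((DirectSum.component R ℕ (fun i => ⋀[R]^i (Fin m → R)) k)
    (DirectSum.decomposeLinearEquiv (fun i => ⋀[R]^i (Fin m → R)) x)).2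

theorem projE_of_mem {k : ℕ} {x : Λ} (hx : x ∈ ⋀[R]^k (Fin m → R)) : projE k x = x :=
  DirectSum.decompose_of_mem_same (fun i => ⋀[R]^i (Fin m → R)) hx

/-- Projection onto the homogeneous part of degree `n`. -/
noncomputable def divProj (n : ℕ) : Div R m →ₗ[R] Div R m :=
  ∑ i ∈ Finset.range (n / 2 + 1), (Finsupp.lsingle i) ∘ₗ projE (n - 2 * i) ∘ₗ Finsupp.lapply i

theorem divProj_apply (n : ℕ) (a : Div R m) (i : ℕ) :
    divProj n a i = if 2 * i ≤ n then projE (n - 2 * i) (a i) else 0 := by
  simp only [divProj, LinearMap.sum_apply, LinearMap.comp_apply, Finsupp.lsingle_apply, Finsupp.lapply_apply,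
    Finsupp.finsetSum_apply, Finsupp.single_apply]
  rw [Finset.sum_ite_eq']
  simp only [Finset.mem_range, show i < n / 2 + 1 ↔ 2 * i ≤ n by omega]

theorem homog_divProj (n : ℕ) (a : Div R m) : Homog n (divProj n a) := fun i => by
  rw [divProj_apply]
  exact ⟨fun hi => by rw [if_pos hi]; exact projE_mem _ _, fun hi => if_neg (by omega)⟩

theorem divProj_of_homog {n : ℕ} {a : Div R m} (ha : Homog n a) : divProj n a = a := by
  ext i
  rw [divProj_apply]
  split_ifs with hi
  · exact projE_of_mem ((ha i).1 hi)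
  · exact ((ha i).2 (by omega)).symm

instance projective_div : Module.Projective R (Div R m) :=
  Module.Projective.of_basis (Finsupp.basis fun _ : ℕ => (Pi.basisFun R (Fin m)).ExteriorAlgebra)

theorem homog_single (i : ℕ) : Homog (2 * i) (Finsupp.single i (1 : Λ) : Div R m) := fun j => by
  rw [Finsupp.single_apply]
  constructor
  · intro hj
    split_ifs with h
    · subst h
      rw [Nat.sub_self]
      exact one_mem_zero
    · exact zero_mem _
  · exact fun hj => if_neg (by omega)

theorem divShift_single (i : ℕ) :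
    divShift (Finsupp.single (i + 1) (1 : Λ) : Div R m) = Finsupp.single i 1 := by
  ext j
  simp [divShift_apply, Finsupp.single_apply]

theorem divD_single (i : ℕ) :
    divD φ r (Finsupp.single (i + 1) (1 : Λ) : Div R m) = Finsupp.single i (ExteriorAlgebra.ι R r) := by
  ext j
  rw [divD_apply, Finsupp.single_apply, Finsupp.single_apply, Finsupp.single_apply]
  split_ifs <;> first | omega | simp [contr_one]

end TorDimLib
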